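import Cfsg.Agent.H68.SL2Values

/-!
# Characters of `SL₂` identified by their degree
-/

set_option autoImplicit false

namespace Cfsg.Agent.H68

open Matrix Cfsg.Agent.H26

variable {F : Type*} [Field F] [Fintype F] [DecidableEq F]

local notation "SL₂" => Matrix.SpecialLinearGroup (Fin 2) F
local notation "M₂" => Matrix (Fin 2) (Fin 2) F

/-- Setting for odd `q`. -/
theorem exists_odd_setup (hodd : Odd (Fintype.card F)) :
    ∃ (k : ℕ) (n : Fˣ) (ψ : AddChar F ℂ), Fintype.card F = 2 * k + 1 ∧ 1 ≤ k ∧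
      ringChar F ≠ 2 ∧ ¬ IsSquare (n : F) ∧ ψ.IsPrimitive := by
  obtain ⟨k, hk⟩ := hodd
  have h2 : ringChar F ≠ 2 := fun h => by
    have := FiniteField.even_card_of_char_two h
    omega
  obtain ⟨a, ha⟩ := FiniteField.exists_nonsquare h2
  obtain ⟨ψ, hψ⟩ := exists_primitive_addChar (F := F)
  have := card_field_ge_two (F := F)
  exact ⟨k, Units.mk0 a fun h0 => ha (h0 ▸ IsSquare.zero), ψ, hk, by omega, h2, ha, hψ⟩

/-- The only irreducible character of degree `q` is the Steinberg character. -/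
theorem eq_sSt_of_degree {χ : SL₂ → ℂ} (hχ : Cfsg.IsIrrCharacter SL₂ χ)
    (hd : χ 1 = (Fintype.card F : ℂ)) : χ = sSt := by
  have hq := card_field_ge_two (F := F)
  by_cases h2 : ringChar F = 2
  · obtain ⟨C, -, -, -, hcases⟩ := sl2_even_cases (F := F) h2
    rcases hcases ⟨χ, hχ⟩ with ⟨-, e⟩ | ⟨h, -⟩ | ⟨-, e⟩ | ⟨-, e⟩
    case inr.inl => exact congrArg Subtype.val h
    all_goals (have := Nat.cast_injective (hd.symm.trans e); omega)
  · obtain ⟨k, n, ψ, hk, hk1, -, hn, hψ⟩ :=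
      exists_odd_setup (F := F) (Nat.odd_iff.2 (FiniteField.odd_card_of_char_ne_two h2))
    obtain ⟨H₁, H₂, C₁, C₂, C, -, -, -, -, -, -, -, -, -, -, -, -, -, -, -, -, hcases⟩ :=
      sl2_odd_cases hk hn hψ
    rw [hk] at hd
    rcases hcases ⟨χ, hχ⟩ with ⟨-, e⟩ | ⟨h, -⟩ | ⟨-, e⟩ | ⟨-, e⟩ | ⟨-, e⟩ | ⟨-, e⟩
    case inr.inl => exact congrArg Subtype.val h
    all_goals (have := Nat.cast_injective (hd.symm.trans e); omega)

/-- Halves of the quadratic principal series vanish at elements without eigenvector. -/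
theorem half_elliptic {χ₁ χ₂ : SL₂ → ℂ} {n : Fˣ} (hc : Cfsg.IsClassFunction SL₂ χ₁)
    (hconj : ∀ g, χ₂ g = χ₁ (slConj n g)) (hsum : sPS (qchar F) = χ₁ + χ₂) {g : SL₂}
    (hg : ∀ (c : F) (v : Fin 2 → F), v ≠ 0 → (g : M₂).mulVec v ≠ c • v) :
    χ₁ g = 0 ∧ χ₂ g = 0 := by
  have h0 := congrFun hsum g
  rw [sPS_elliptic _ hg, Pi.add_apply, hconj] at h0
  obtain ⟨x, hx⟩ := isConj_iff.1 (isConj_slConj_of_no_eigen n hg)
  have h1 : χ₁ (slConj n g) = χ₁ g := by
    have := hc (slConj n g) x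
    rwa [hx, eq_comm] at this
  rw [h1] at h0
  have hz : χ₁ g = 0 := by linear_combination -(1 / 2 : ℂ) * h0
  exact ⟨hz, by rw [hconj, h1, hz]⟩

/-- A transvection is in the kernel of a linear character when `q = 3`. -/
theorem weyl_value_of_degree_one {χ : SL₂ → ℂ} (hχ : Cfsg.IsIrrCharacter SL₂ χ) (h1 : χ 1 = 1)
    (h3 : (3 : F) = 0) : χ sl2W = 1 := by
  obtain ⟨n, ρ, hρ, rfl⟩ := hχ
  rw [ρ.char_one] at h1
  have hn : Module.finrank ℂ (Fin n → ℂ) = 1 := by exact_mod_cast h1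
  -- on a one-dimensional space every endomorphism is a scalar, so the character is multiplicative
  have hmul : ∀ a b : SL₂, ρ.character (a * b) = ρ.character a * ρ.character b := by
    intro a b
    have hscal : ∀ f : (Fin n → ℂ) →ₗ[ℂ] (Fin n → ℂ),
        f = LinearMap.trace ℂ _ f • LinearMap.id := by
      intro f
      obtain ⟨v, hv, hspan⟩ := finrank_eq_one_iff'.1 hn
      obtain ⟨c, hc⟩ := hspan (f v)
      have hf : f = c • LinearMap.id := by
        refine LinearMap.ext fun w => ?_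
        obtain ⟨d, rfl⟩ := hspan w
        rw [map_smul, ← hc, LinearMap.smul_apply, LinearMap.id_apply, smul_comm]
      rw [hf, map_smul, LinearMap.trace_id, hn]
      simp
    simp only [Representation.character, map_mul]
    conv_lhs => rw [hscal (ρ a), hscal (ρ b)]
    rw [smul_mul_assoc, mul_smul_comm, map_smul, map_smul, ← Module.End.one_eq_id, one_mul,
      Module.End.one_eq_id, LinearMap.trace_id, hn]
    simp
  have hc := isClassFunction_of_isCharacter (isCharacter_char ρ)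
  have hL : ρ.character (sl2L (-1)) = ρ.character (sl2U 1) := by
    rw [sl2L_eq_conj, neg_neg]
    exact hc _ _
  rw [sl2W_eq_trans, hmul, hmul, hL, ← hmul, ← hmul]
  have hu : (sl2U 1 * sl2U 1 * sl2U 1 : SL₂) = 1 := by
    rw [show (sl2U 1 : SL₂) = (sl2Data F).u 1 from rfl, ← (sl2Data F).u_add, ← (sl2Data F).u_add]
    rw [show (1 : F) + 1 + 1 = 0 by linear_combination h3]
    exact (sl2Data F).u_zero
  rw [hu, ρ.char_one, hn, Nat.cast_one]

end Cfsg.Agent.H68
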