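import Cfsg.Agent.H68.SL2Degrees
import Cfsg.Agent.H69.SL2Classes

/-!
# Values of the characters of `SL₂` at semisimple elements
-/

set_option autoImplicit false

namespace Cfsg.Agent.H68

open Matrix Cfsg.Agent.H26

variable {F : Type*} [Field F]

local notation "SL₂" => Matrix.SpecialLinearGroup (Fin 2) F
local notation "M₂" => Matrix (Fin 2) (Fin 2) F

/-- A diagonal element of `SL₂` is in the torus. -/
theorem exists_sl2Diag {g : SL₂} (h01 : (g : M₂) 0 1 = 0) (h10 : (g : M₂) 1 0 = 0) :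
    ∃ a : Fˣ, g = sl2Diag a ∧ (a : F) = (g : M₂) 0 0 := by
  have hd := g.2
  rw [Matrix.det_fin_two, h10, mul_zero, sub_zero] at hd
  refine ⟨Units.mk0 _ (left_ne_zero_of_mul_eq_one hd), Subtype.ext ?_, rfl⟩
  ext i j
  fin_cases i <;> fin_cases j <;> simp [h01, h10, eq_inv_of_mul_eq_one_right hd]

/-- An element without eigenvector is not scalar. -/
theorem not_isScalar2_of_no_eigen {g : SL₂}
    (hg : ∀ (c : F) (v : Fin 2 → F), v ≠ 0 → (g : M₂).mulVec v ≠ c • v) :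
    ¬ Cfsg.Agent.H69.IsScalar2 (g : M₂) := by
  rintro ⟨-, h10, -⟩
  refine hg ((g : M₂) 0 0) ![1, 0] (fun h => one_ne_zero (congrFun h 0)) ?_
  funext i
  fin_cases i <;> simp [Matrix.mulVec, dotProduct, Fin.sum_univ_two, h10]

/-- An element without eigenvector has trace different from `±2`. -/
theorem trace_sq_ne_four_of_no_eigen {g : SL₂}
    (hg : ∀ (c : F) (v : Fin 2 → F), v ≠ 0 → (g : M₂).mulVec v ≠ c • v) :
    (g : M₂).trace ^ 2 ≠ 4 := by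
  intro h
  have key : ∀ c : F, c ^ 2 = 1 → (g : M₂).trace ≠ 2 * c := by
    intro c hc ht
    have hdet : ((g : M₂) - c • 1).det = 0 := by
      have h2 := g.2
      rw [det_fin_two] at h2 ⊢
      rw [trace_fin_two] at ht
      simp
      linear_combination h2 - c * ht - hc
    obtain ⟨v, hv, hv0⟩ := Matrix.exists_mulVec_eq_zero_iff.2 hdet
    refine hg c v hv ?_
    rw [Matrix.sub_mulVec, Matrix.smul_mulVec, Matrix.one_mulVec, sub_eq_zero] at hv0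
    exact hv0
  have h' : ((g : M₂).trace - 2) * ((g : M₂).trace + 2) = 0 := by linear_combination h
  rcases mul_eq_zero.1 h' with h1 | h1
  · exact key 1 (one_pow 2) (by linear_combination h1)
  · exact key (-1) (by norm_num) (by linear_combination h1)

/-- Conjugation by `diag(e, 1)` fixes the class of an element without eigenvector. -/
theorem isConj_slConj_of_no_eigen [Finite F] (e : Fˣ) {g : SL₂}
    (hg : ∀ (c : F) (v : Fin 2 → F), v ≠ 0 → (g : M₂).mulVec v ≠ c • v) :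
    IsConj (slConj e g) g := by
  have hs := not_isScalar2_of_no_eigen hg
  refine Cfsg.Agent.H69.sl2_isConj_of_trace ?_ hs ?_ (Or.inl ?_)
  · intro h
    apply hs
    obtain ⟨h1, h2, h3⟩ := h
    rw [slConj_coe] at h1 h2 h3
    simp at h1 h2 h3
    exact ⟨h1, h2, h3⟩
  · rw [slConj_coe, trace_fin_two, trace_fin_two]; simp
  · have ht : (slConj e g : M₂).trace = (g : M₂).trace := by
      rw [slConj_coe, trace_fin_two, trace_fin_two]; simp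
    rw [ht]
    exact trace_sq_ne_four_of_no_eigen hg

variable [Fintype F] [DecidableEq F]

theorem sPS_elliptic (α : MulChar F ℂ) {g : SL₂}
    (hg : ∀ (c : F) (v : Fin 2 → F), v ≠ 0 → (g : M₂).mulVec v ≠ c • v) : sPS α g = 0 :=
  indFun_eq_zero _ _ (sl2_conj_notMem_upper hg)

theorem sPS_sl2Diag (α : MulChar F ℂ) {a : Fˣ} (ha : a ^ 2 ≠ 1) :
    sPS α (sl2Diag a) = α (a : F) + α ((a⁻¹ : Fˣ) : F) := by
  have h := (sl2Data F).ps_apply_tu (MulChar.equivToUnitHom α) a 0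
  rw [(sl2Data F).u_zero, mul_one] at h
  change (sl2Data F).ps _ ((sl2Data F).t a) = _
  rw [h, Fintype.sum_eq_single 0]
  · simp [MulChar.coe_equivToUnitHom, sl2Data]
    exact (MulChar.inv_apply_eq_inv' α _).symm.trans (MulChar.inv_apply' α _)
  · intro z hz
    rw [if_neg]
    intro h0
    simp only [zero_add] at h0
    have h1 : (1 - (((sl2Data F).act a : Fˣ) : F)⁻¹) * z = 0 := by linear_combination h0
    rcases mul_eq_zero.1 h1 with h2 | h2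
    · rw [sub_eq_zero] at h2
      exact ha (Units.ext (inv_eq_one.1 h2.symm))
    · exact hz h2

theorem sl2_units_sq_ne_one {a : Fˣ} {x : F} (h : (a : F) = x) (hx : x ^ 2 ≠ 1) : a ^ 2 ≠ 1 :=
  fun e => hx (by rw [← h, ← Units.val_pow_eq_pow_val, e, Units.val_one])

/-- The odd table, with the degrees as natural numbers. -/
theorem sl2_odd_cases {k : ℕ} (hk : Fintype.card F = 2 * k + 1) {n : Fˣ}
    (hn : ¬ IsSquare (n : F)) {ψ : AddChar F ℂ} (hψ : ψ.IsPrimitive) :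
    ∃ H₁ H₂ C₁ C₂ : Cfsg.IrrCharacter SL₂, ∃ C : Finset (Cfsg.IrrCharacter SL₂),
      H₁ ≠ H₂ ∧ C₁ ≠ C₂ ∧ C.card = k ∧ (sPSSet F).card + 1 = k ∧
      (∀ g, H₂.1 g = H₁.1 (slConj n g)) ∧ sPS (qchar F) = H₁.1 + H₂.1 ∧
      H₁.1 (sl2U 1) = (1 + gaussSum (qchar F) ψ) / 2 ∧ H₂.1 (sl2U 1) = (1 - gaussSum (qchar F) ψ) / 2 ∧
      C₁.1 (sl2U 1) = (-1 + gaussSum (qchar F) ψ) / 2 ∧ C₂.1 (sl2U 1) = (-1 - gaussSum (qchar F) ψ) / 2 ∧
      H₁.1 1 = ((k + 1 : ℕ) : ℂ) ∧ H₂.1 1 = ((k + 1 : ℕ) : ℂ) ∧ C₁.1 1 = (k : ℂ) ∧ C₂.1 1 = (k : ℂ) ∧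
      (∀ χ ∈ C, χ.1 1 = ((2 * k : ℕ) : ℂ) ∧ χ.1 (sl2U 1) = -1 ∧
        ∀ α : MulChar F ℂ, Cfsg.classInner χ.1 (sPS α) = 0) ∧
      (∀ α : MulChar F ℂ, Cfsg.classInner C₁.1 (sPS α) = 0 ∧ Cfsg.classInner C₂.1 (sPS α) = 0) ∧
      ∀ χ : Cfsg.IrrCharacter SL₂,
        (χ = sTriv F ∧ χ.1 1 = ((1 : ℕ) : ℂ)) ∨ (χ = sStI F ∧ χ.1 1 = ((2 * k + 1 : ℕ) : ℂ)) ∨
        (χ ∈ sPSSet F ∧ χ.1 1 = ((2 * k + 2 : ℕ) : ℂ)) ∨
        ((χ = H₁ ∨ χ = H₂) ∧ χ.1 1 = ((k + 1 : ℕ) : ℂ)) ∨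
        ((χ = C₁ ∨ χ = C₂) ∧ χ.1 1 = ((k : ℕ) : ℂ)) ∨
        (χ ∈ C ∧ χ.1 1 = ((2 * k : ℕ) : ℂ)) := by
  obtain ⟨H₁, H₂, C₁, C₂, C, hH, hC, hc, hP, hconj, hsum, -, ⟨a1, a2⟩, ⟨b1, b2⟩, ⟨c1, c2⟩, ⟨d1, d2⟩,
    hCall, hCorth, hcases⟩ := sl2_odd_table hk hn hψ
  have hk1 : ((k + 1 : ℕ) : ℂ) = (k : ℂ) + 1 := by push_cast; ring
  have hk2 : ((2 * k : ℕ) : ℂ) = 2 * (k : ℂ) := by push_cast; ring
  refine ⟨H₁, H₂, C₁, C₂, C, hH, hC, hc, hP, hconj, hsum, a2, b2, c2, d2, by rw [a1, hk1],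
    by rw [b1, hk1], c1, d1, fun χ h => ⟨by rw [(hCall χ h).1, hk2], (hCall χ h).2⟩, hCorth,
    fun χ => ?_⟩
  rcases hcases χ with h | h | h | h | h | h | h | h
  · exact .inl ⟨h, by rw [h, Nat.cast_one]; rfl⟩
  · refine .inr (.inl ⟨h, ?_⟩)
    rw [h, ← hk]; exact sSt_one
  · refine .inr (.inr (.inl ⟨h, ?_⟩))
    obtain ⟨α, -, e⟩ := mem_sPSSet.1 h
    rw [e, sPS_one, hk]; push_cast; ring
  · exact .inr (.inr (.inr (.inl ⟨.inl h, by rw [h, a1, hk1]⟩)))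
  · exact .inr (.inr (.inr (.inl ⟨.inr h, by rw [h, b1, hk1]⟩)))
  · exact .inr (.inr (.inr (.inr (.inl ⟨.inl h, by rw [h, c1]⟩))))
  · exact .inr (.inr (.inr (.inr (.inl ⟨.inr h, by rw [h, d1]⟩))))
  · exact .inr (.inr (.inr (.inr (.inr ⟨h, by rw [(hCall χ h).1, hk2]⟩))))

/-- The even table, with the degrees as natural numbers. -/
theorem sl2_even_cases (hF : ringChar F = 2) :
    ∃ C : Finset (Cfsg.IrrCharacter SL₂), 2 * (sPSSet F).card + 2 = Fintype.card F ∧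
      2 * C.card = Fintype.card F ∧
      (∀ χ ∈ C, χ.1 1 = ((Fintype.card F - 1 : ℕ) : ℂ) ∧ χ.1 (sl2U 1) = -1 ∧
        ∀ α : MulChar F ℂ, Cfsg.classInner χ.1 (sPS α) = 0) ∧
      ∀ χ : Cfsg.IrrCharacter SL₂,
        (χ = sTriv F ∧ χ.1 1 = ((1 : ℕ) : ℂ)) ∨
        (χ = sStI F ∧ χ.1 1 = ((Fintype.card F : ℕ) : ℂ)) ∨
        (χ ∈ sPSSet F ∧ χ.1 1 = ((Fintype.card F + 1 : ℕ) : ℂ)) ∨
        (χ ∈ C ∧ χ.1 1 = ((Fintype.card F - 1 : ℕ) : ℂ)) := by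
  obtain ⟨C, hP, hC, hall, hcases⟩ := sl2_even_table (F := F) hF
  have hc : ((Fintype.card F - 1 : ℕ) : ℂ) = (Fintype.card F : ℂ) - 1 := by
    rw [Nat.cast_sub Fintype.card_pos, Nat.cast_one]
  refine ⟨C, hP, hC, fun χ h => ⟨by rw [(hall χ h).1, hc], (hall χ h).2⟩, fun χ => ?_⟩
  rcases hcases χ with h | h | h | h
  · exact .inl ⟨h, by rw [h, Nat.cast_one]; rfl⟩
  · exact .inr (.inl ⟨h, by rw [h]; exact sSt_one⟩)
  · refine .inr (.inr (.inl ⟨h, ?_⟩))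
    obtain ⟨α, -, e⟩ := mem_sPSSet.1 h
    rw [e, sPS_one, Nat.cast_succ]
  · exact .inr (.inr (.inr ⟨h, by rw [(hall χ h).1, hc]⟩))

end Cfsg.Agent.H68
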